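import Cfsg.Agent.H663.GmnExc
import Cfsg.Agent.H712.GmnMin
import Cfsg.Agent.H735.S4822.Prod
import Cfsg.Agent.H133.PB.Basic
import Cfsg.Agent.H145.BR.Defs

/-!
# (R4) of TEAM B0-RAT (S4891): the invariant witness of a nonabelian minimal normal subgroup (helper940)

`exists_theta` : the stub of tools/plans/S4891_red.lean.txt.
-/

set_option autoImplicit false
set_option linter.unusedSectionVars false

open Cfsg

namespace Cfsg.Agent.H940.RatB

open Cfsg.Agent.H663.GmnStep Cfsg.Agent.Characters.Core Cfsg.Agent.Characters.Clifford Cfsg.Agent.H145.BR Cfsg.Agent.H712 Cfsg.Agent.Blocks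

universe u

section fac

variable {G : Type u} [Group G] {N : Subgroup G} [hN : N.Normal] {m : ℕ} {T : Fin m → Subgroup G}

/-- the factor `T j` lies in the orbit of `T i₀` under `P` -/
def Reach (P : Subgroup G) (T : Fin m → Subgroup G) (i₀ j : Fin m) : Prop :=
  ∃ x : G, x ∈ P ∧ T j = (T i₀).map (MulAut.conj x).toMonoidHom

open Classical in
/-- the transported character of the factor `T j` -/
noncomputable def fac (P : Subgroup G) (T : Fin m → Subgroup G) (i₀ : Fin m) (θ : T i₀ → ℂ) (j : Fin m) : T j → ℂ :=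
  if h : Reach P T i₀ j then fun t => θ ((conjIso h.choose h.choose_spec.2).symm t) else fun _ => 1

theorem fac_of_not {P : Subgroup G} {i₀ : Fin m} {θ : T i₀ → ℂ} {j : Fin m} (h : ¬ Reach P T i₀ j) :
    fac P T i₀ θ j = fun _ => 1 := by
  rw [fac, dif_neg h]

theorem fac_conj {P : Subgroup G} {i₀ : Fin m} {θ : T i₀ → ℂ}
    (hinv : ∀ x ∈ P, ∀ s t : T i₀, (∀ y, y ∈ T i₀ ↔ x * y * x⁻¹ ∈ T i₀) → (s : G) = x * t * x⁻¹ → θ s = θ t)
    {j : Fin m} {x : G} (hx : x ∈ P) (hj : T j = (T i₀).map (MulAut.conj x).toMonoidHom) (s : T j) (t : T i₀)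
    (hst : (s : G) = x * t * x⁻¹) : fac P T i₀ θ j s = θ t := by
  have h : Reach P T i₀ j := ⟨x, hx, hj⟩
  rw [fac, dif_pos h]
  set y := h.choose with hy
  have hyP : y ∈ P := h.choose_spec.1
  have hyj : T j = (T i₀).map (MulAut.conj y).toMonoidHom := h.choose_spec.2
  have hmem : ∀ (z w : G), T j = (T i₀).map (MulAut.conj z).toMonoidHom → (w ∈ T i₀ ↔ z * w * z⁻¹ ∈ T j) := by
    intro z w hz
    rw [hz]
    constructor
    · intro hw
      exact ⟨w, hw, rfl⟩
    · rintro ⟨v, hv, hv'⟩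
      have : v = w := (MulAut.conj z).injective hv'
      exact this ▸ hv
  refine hinv (y⁻¹ * x) (P.mul_mem (P.inv_mem hyP) hx) _ _ (fun w => ?_) ?_
  · rw [hmem x w hj, hmem y (y⁻¹ * x * w * (y⁻¹ * x)⁻¹) hyj]
    have h1 : y * (y⁻¹ * x * w * (y⁻¹ * x)⁻¹) * y⁻¹ = x * w * x⁻¹ := by group
    rw [h1]
  · have h2 : (conjIso y hyj ((conjIso y hyj).symm s) : G) = y * ((conjIso y hyj).symm s : T i₀) * y⁻¹ :=
      conjIso_apply y hyj _
    rw [MulEquiv.apply_symm_apply, hst] at h2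
    have h3 : (((conjIso y hyj).symm s : T i₀) : G) = y⁻¹ * (x * t * x⁻¹) * y := by
      rw [h2]; group
    rw [h3]
    group

theorem map_conj_mul (A : Subgroup G) (a b : G) :
    (A.map (MulAut.conj b).toMonoidHom).map (MulAut.conj a).toMonoidHom =
      A.map (MulAut.conj (a * b)).toMonoidHom := by
  rw [Subgroup.map_map]
  congr 1
  ext x
  simp [MulAut.conj_apply, mul_assoc]

variable {e : N ≃* ∀ i, T i}

theorem fac_sg (hc : IsCoord e) {P : Subgroup G} {i₀ : Fin m} {θ : T i₀ → ℂ}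
    (hinv : ∀ x ∈ P, ∀ s t : T i₀, (∀ y, y ∈ T i₀ ↔ x * y * x⁻¹ ∈ T i₀) → (s : G) = x * t * x⁻¹ → θ s = θ t)
    {g : G} (hg : g ∈ P) (i : Fin m) (s : T i) :
    fac P T i₀ θ (hc.sg g i) (hc.ci g i s) = fac P T i₀ θ i s := by
  by_cases h : Reach P T i₀ i
  · obtain ⟨x, hx, hi⟩ := h
    have hs : (s : G) ∈ (T i₀).map (MulAut.conj x).toMonoidHom := hi ▸ s.2
    obtain ⟨t, ht, hts⟩ := hs
    have hts' : (s : G) = x * t * x⁻¹ := hts.symm
    rw [fac_conj hinv hx hi s ⟨t, ht⟩ hts']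
    refine fac_conj hinv (P.mul_mem hg hx) ?_ _ ⟨t, ht⟩ ?_
    · rw [hc.T_sg, hi, map_conj_mul]
    · rw [hc.ci_coe, hts']; group
  · have h' : ¬ Reach P T i₀ (hc.sg g i) := by
      rintro ⟨x, hx, hi⟩
      refine h ⟨g⁻¹ * x, P.mul_mem (P.inv_mem hg) hx, ?_⟩
      rw [← map_conj_mul, ← hi, hc.T_sg, map_conj_mul, inv_mul_cancel, map_one]
      exact (Subgroup.map_id _).symm
    rw [fac_of_not h, fac_of_not h']

/-- **the product character** of the orbit of a factor under `P`; `R` contains the values -/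
theorem exists_prod_theta [Finite G] {p : ℕ} [hp : Fact p.Prime] {M : Ideal AlgInt} [M.IsPrime] (hc : IsCoord e)
    (P : Subgroup G) (i₀ : Fin m) (θ₀ : IrrCharacter (T i₀)) (hB : θ₀ ∈ principalBlock M (T i₀))
    (hne : (θ₀ : T i₀ → ℂ) ≠ fun _ => 1) (hdeg : ¬ p ∣ charDegree (θ₀ : T i₀ → ℂ)) (R : Subring ℂ)
    (hR : ∀ t, (θ₀ : T i₀ → ℂ) t ∈ R)
    (hinv : ∀ x ∈ P, ∀ s t : T i₀, (∀ y, y ∈ T i₀ ↔ x * y * x⁻¹ ∈ T i₀) → (s : G) = x * t * x⁻¹ →
      (θ₀ : T i₀ → ℂ) s = (θ₀ : T i₀ → ℂ) t) :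
    ∃ θ : IrrCharacter N, θ ∈ principalBlock M N ∧ (θ : N → ℂ) ≠ (fun _ => 1) ∧ ¬ p ∣ charDegree (θ : N → ℂ) ∧
      (∀ n, (θ : N → ℂ) n ∈ R) ∧
      ∀ g ∈ P, ∀ x : N, (θ : N → ℂ) (MulAut.conjNormal g x) = (θ : N → ℂ) x := by
  classical
  have hfi : ∀ j, IsIrrCharacter (T j) (fac P T i₀ (θ₀ : T i₀ → ℂ) j) := by
    intro j
    by_cases h : Reach P T i₀ j
    · rw [fac, dif_pos h]
      exact isIrr_comp ((conjIso h.choose h.choose_spec.2).symm : T j →* T i₀) (MulEquiv.surjective _) θ₀.2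
    · rw [fac_of_not h]
      exact Blocks.Basic.isIrrCharacter_one
  let f : ∀ j, IrrCharacter (T j) := fun j => ⟨_, hfi j⟩
  have hfB : ∀ j, f j ∈ principalBlock M (T j) := by
    intro j
    by_cases h : Reach P T i₀ j
    · have h1 := H133.PB.mem_principalBlock_comp
        ((conjIso h.choose h.choose_spec.2).symm : T j →* T i₀) (MulEquiv.surjective _) hB
      have h2 : f j = ⟨(θ₀ : T i₀ → ℂ) ∘ ((conjIso h.choose h.choose_spec.2).symm : T j →* T i₀),
          isIrr_comp _ (MulEquiv.surjective _) θ₀.2⟩ := by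
        apply Subtype.ext
        show fac P T i₀ (θ₀ : T i₀ → ℂ) j = _
        rw [fac, dif_pos h]
        rfl
      rw [h2]
      exact h1
    · have h2 : f j = ⟨fun _ => 1, Blocks.Basic.isIrrCharacter_one⟩ := by
        apply Subtype.ext
        exact fac_of_not h
      rw [h2]
      exact Blocks.PrincipalSection.one_mem_principalBlock
  have hfd : ∀ j, ¬ p ∣ charDegree (f j : T j → ℂ) := by
    intro j
    by_cases h : Reach P T i₀ j
    · have h2 : charDegree (f j : T j → ℂ) = charDegree (θ₀ : T i₀ → ℂ) := by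
        rw [Blocks.Basic.charDegree_def, Blocks.Basic.charDegree_def]
        have : (f j : T j → ℂ) 1 = (θ₀ : T i₀ → ℂ) 1 := by
          show fac P T i₀ (θ₀ : T i₀ → ℂ) j 1 = _
          rw [fac, dif_pos h, map_one]
        rw [this]
      rw [h2]
      exact hdeg
    · have h2 : charDegree (f j : T j → ℂ) = 1 := by
        apply H672.charDegree_of_eq
        show fac P T i₀ (θ₀ : T i₀ → ℂ) j 1 = _
        rw [fac_of_not h, Nat.cast_one]
      rw [h2]
      exact hp.out.not_dvd_one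
  have hfR : ∀ j t, (f j : T j → ℂ) t ∈ R := by
    intro j t
    show fac P T i₀ (θ₀ : T i₀ → ℂ) j t ∈ R
    by_cases h : Reach P T i₀ j
    · rw [fac, dif_pos h]
      exact hR _
    · rw [fac_of_not h]
      exact R.one_mem
  have hF := H133.PB.mem_principalBlock_comp (e : N →* ∀ i, T i) e.surjective (H735.S4822.pi_mem f hfB)
  refine ⟨_, hF, ?_, ?_, ?_, ?_⟩
  · intro h1
    have hd1 : Dec e (fun _ : N => (1 : ℂ)) (fun i => (f i : T i → ℂ)) := by
      refine ⟨fun i => (f i).2, fun n => ?_⟩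
      exact (congrFun h1 n).symm
    have hd2 : Dec e (fun _ : N => (1 : ℂ)) (fun i => fun _ : T i => (1 : ℂ)) := by
      refine ⟨fun i => Blocks.Basic.isIrrCharacter_one, fun n => ?_⟩
      rw [Finset.prod_const_one]
    have h2 := congrFun (hd1.unique hd2) i₀
    apply hne
    funext t
    have h3 : fac P T i₀ (θ₀ : T i₀ → ℂ) i₀ t = (θ₀ : T i₀ → ℂ) t :=
      fac_conj hinv P.one_mem (by rw [map_one]; exact (Subgroup.map_id _).symm) t t (by group)
    rw [← h3]
    exact congrFun h2 t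
  · have hd1 : Dec e (fun n : N => ∏ i, (f i : T i → ℂ) (e n i)) (fun i => (f i : T i → ℂ)) :=
      ⟨fun i => (f i).2, fun n => rfl⟩
    intro h1
    have h2 : charDegree (fun n : N => ∏ i, (f i : T i → ℂ) (e n i)) = ∏ i, charDegree (f i : T i → ℂ) := hd1.degree
    have h3 : p ∣ ∏ i, charDegree (f i : T i → ℂ) := h2 ▸ h1
    rw [Prime.dvd_finset_prod_iff hp.out.prime] at h3
    obtain ⟨i, -, hi⟩ := h3
    exact hfd i hi
  · intro n
    show ∏ i, (f i : T i → ℂ) (e n i) ∈ R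
    exact R.prod_mem fun i _ => hfR i _
  · intro g hg x
    show ∏ j, fac P T i₀ (θ₀ : T i₀ → ℂ) j (e (MulAut.conjNormal g x) j) = ∏ i, fac P T i₀ (θ₀ : T i₀ → ℂ) i (e x i)
    refine ((hc.sg_bij g).prod_comp (fun j => fac P T i₀ (θ₀ : T i₀ → ℂ) j (e (MulAut.conjNormal g x) j))).symm.trans ?_
    refine Finset.prod_congr rfl fun i _ => ?_
    rw [hc.coord, fac_sg hc hinv hg]

end fac

section main

variable {p : ℕ} [hp : Fact p.Prime]

/-- **(R4)** -/
theorem exists_theta (hT : ∀ (S : Type u) [Group S] [Finite S], IsSimpleGroup S → (¬ ∀ a b : S, a * b = b * a) →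
      p ∣ Nat.card S → Row p S) {M : Ideal AlgInt} (hM : IsPModular p M) {G : Type u} [Group G] [Finite G]
    (P : Sylow p G) (N : Subgroup G) [N.Normal] (hmin : ∀ K : Subgroup G, K.Normal → K ≤ N → K = ⊥ ∨ K = N)
    (hna : ¬ ∀ x ∈ N, ∀ y ∈ N, Commute x y) (hd : p ∣ Nat.card N) :
    (∃ θ : IrrCharacter N, Wit p M N θ ∧
      ∀ g ∈ (P : Subgroup G), ∀ x : N, (θ : N → ℂ) (MulAut.conjNormal g x) = (θ : N → ℂ) x) ∨
    (∀ g ∈ N, ¬ p ∣ orderOf g → (∀ x ∈ (P : Subgroup G), g * x * g⁻¹ ∈ (P : Subgroup G)) → g = 1) := by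
  classical
  have hMp : M.IsPrime := hM.2.1.isPrime
  obtain ⟨m, T, e, hm, hsimple, hnonab, hTinj, hTle, hTnorm, hperm, htrans, hsingle, hcomm⟩ :=
    PermutationGroups.OnanScott.exists_coordinates N hmin hna
  have hc : IsCoord e := ⟨hTinj, hTle, hTnorm, hperm, hsingle, hcomm⟩
  have hcard : ∀ i j, Nat.card (T i) = Nat.card (T j) := by
    intro i j
    obtain ⟨g, hg⟩ := htrans i j
    rw [hg, Subgroup.card_map_of_injective (MulAut.conj g).injective]
  have hdT : ∀ i, p ∣ Nat.card (T i) := by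
    intro i
    rw [Nat.card_congr e.toEquiv, Nat.card_pi, Prime.dvd_finset_prod_iff hp.out.prime] at hd
    obtain ⟨j, -, hj⟩ := hd
    rw [hcard i j]
    exact hj
  have hnab : ∀ i, ¬ ∀ a b : T i, a * b = b * a := by
    intro i h
    obtain ⟨a, b, hab⟩ := hnonab i
    exact hab (h a b)
  have hyp : ∀ i, GmnMin.Hyp N (T i) := fun i => ⟨inferInstance, hTle i, hTnorm i, hsimple i, hnab i⟩
  have hrow : ∀ i, RowA p (T i) (GmnMin.indT P (T i)) ∨
      ∀ g : T i, ¬ p ∣ orderOf g → (∀ a ∈ GmnMin.indT P (T i),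
        MulAut.conj g * a * (MulAut.conj g)⁻¹ ∈ GmnMin.indT P (T i)) → g = 1 := fun i =>
    hT (T i) (hsimple i) (hnab i) (hdT i) _ (GmnMin.isPGroup_indT P)
      ⟨GmnMin.sylT P (hyp i), fun x hx => GmnMin.conj_mem_indT P hx⟩
  by_cases hex : ∃ i, RowA p (T i) (GmnMin.indT P (T i))
  · left
    obtain ⟨i₀, hi₀⟩ := hex
    obtain ⟨θ₀, ⟨hB, hne, hdeg, n, hn, hrat⟩, hinv⟩ := hi₀ M hM
    obtain ⟨θ, h1, h2, h3, h4, h5⟩ := exists_prod_theta hc (P : Subgroup G) i₀ θ₀ hB hne hdeg
      (IntermediateField.adjoin ℚ ({Complex.exp (2 * Real.pi * Complex.I / n)} : Set ℂ)).toSubring hrat (by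
        intro x hx s t hxT hst
        have hxN : x ∈ Subgroup.normalizer (T i₀ : Set G) := Subgroup.mem_normalizer_iff.2 hxT
        have ha : (T i₀).normalizerMonoidHom ⟨x, hxN⟩ ∈ GmnMin.indT P (T i₀) := ⟨⟨x, hxN⟩, hx, rfl⟩
        have h1 := hinv _ ha t
        have h2 : (T i₀).normalizerMonoidHom ⟨x, hxN⟩ t = s := Subtype.ext hst.symm
        rwa [h2] at h1)
    exact ⟨θ, ⟨h1, h2, h3, n, hn, h4⟩, h5⟩
  · right
    push Not at hex
    intro g hgN hgp hgP
    set γ : N := ⟨g, hgN⟩ with hγ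
    have hone : ∀ i, e γ i = 1 := by
      intro i
      rcases hrow i with h | h
      · exact absurd h (hex i)
      · refine h (e γ i) (fun hdvd => hgp ?_) fun a ha => ?_
        · have h1 : orderOf (e γ i) ∣ orderOf γ := by
            have h2 := orderOf_map_dvd ((Pi.evalMonoidHom (fun i => T i) i).comp e.toMonoidHom) γ
            exact h2
          have h2 : orderOf γ = orderOf g := by
            rw [← Subgroup.orderOf_coe]
          exact h2 ▸ hdvd.trans h1
        · obtain ⟨x, hx, hxT, hax⟩ := (GmnMin.mem_indT P).1 ha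
          have hgT : g ∈ Subgroup.normalizer (T i : Set G) := hTnorm i hgN
          refine (GmnMin.mem_indT P).2 ⟨g * x * g⁻¹, hgP x hx,
            Subgroup.mul_mem _ (Subgroup.mul_mem _ hgT hxT) (Subgroup.inv_mem _ hgT), fun t => ?_⟩
          -- conjugation by the coordinate is conjugation by `g`
          have key : ∀ t : T i, ((e γ i : T i) : G) * t * ((e γ i : T i) : G)⁻¹ = g * t * g⁻¹ := by
            intro t
            have hij : T i = (T i).map (MulAut.conj g).toMonoidHom := by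
              symm
              refine Subgroup.eq_of_le_of_card_ge ?_ ?_
              · rintro _ ⟨s, hs, rfl⟩
                exact (Subgroup.mem_normalizer_iff.1 hgT s).1 hs
              · rw [Subgroup.card_map_of_injective (MulAut.conj g).injective]
            have h1 := coord_conj hc g i i hij (e.symm (Pi.mulSingle i t))
            have h2 : MulAut.conjNormal g (e.symm (Pi.mulSingle i t)) = γ * e.symm (Pi.mulSingle i t) * γ⁻¹ :=
              Subtype.ext (by rw [MulAut.conjNormal_apply]; rfl)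
            rw [h2, map_mul, map_mul, map_inv, MulEquiv.apply_symm_apply, Pi.mul_apply, Pi.mul_apply, Pi.inv_apply,
              Pi.mulSingle_eq_same] at h1
            exact h1
          set c : T i := e γ i with hcdef
          have h1 : ((MulAut.conj c * a * (MulAut.conj c)⁻¹) t : T i) = c * a (c⁻¹ * t * c) * c⁻¹ := by
            simp [MulAut.mul_apply, MulAut.conj_apply, MulAut.inv_def]
          have h2 := key (c⁻¹ * t * c)
          have h3 : (c : G) * ((c⁻¹ * t * c : T i) : G) * (c : G)⁻¹ = t := by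
            rw [Subgroup.coe_mul, Subgroup.coe_mul, Subgroup.coe_inv]; group
          rw [h3] at h2
          rw [h1, Subgroup.coe_mul, Subgroup.coe_mul, Subgroup.coe_inv, key (a (c⁻¹ * t * c)), hax, h2]
          group
    have h1 : e γ = 1 := funext hone
    have h2 : γ = 1 := e.injective (by rw [h1, map_one])
    exact congrArg Subtype.val h2

end main

end Cfsg.Agent.H940.RatB
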