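import Cfsg.Agent.H627.BR.Main
import Cfsg.Agent.H846.RatB.Gal
import Cfsg.Agent.H940.RatB.Theta
import Cfsg.Agent.S0848
import Cfsg.Agent.Blocks.Knorr

/-!
# (R3) of TEAM B0-RAT (S4891): Theorem N (helper940)

`theoremN : LemL p → ExTh p → ThmN p`.
-/

set_option autoImplicit false
set_option linter.unusedSectionVars false

open Cfsg
open scoped ComplexConjugate

namespace Cfsg.Agent.H940.RatB

open Cfsg.Agent.Characters.Core Cfsg.Agent.H145.BR Cfsg.Agent.H627.BR

universe u

section weight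

/-- weighted orbit counting, weights in a commutative ring -/
theorem exists_sum_sub {p : ℕ} [Fact p.Prime] {P : Type*} [Group P] (hP : IsPGroup p P)
    {α : Type*} [MulAction P α] [Fintype α] {R : Type*} [CommRing R] (w : α → R) (hw : ∀ (g : P) (a : α), w (g • a) = w a)
    [DecidablePred fun a : α => ∀ g : P, g • a = a] :
    ∃ z : R, ∑ a : α, w a - ∑ a ∈ Finset.univ.filter (fun a : α => ∀ g : P, g • a = a), w a = p * z := by
  classical
  have key : ∀ d : R, ∃ k : ℤ, ((Finset.univ.filter (fun a : α => w a = d)).card : ℤ) -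
      (((Finset.univ.filter (fun a : α => ∀ g : P, g • a = a)).filter (fun a : α => w a = d)).card : ℤ) = p * k := by
    intro d
    let S : SubMulAction P α :=
      { carrier := {a | w a = d}
        smul_mem' := fun g {a} ha => by
          show w (g • a) = d
          rw [hw]; exact ha }
    have hmem : ∀ a : α, a ∈ S ↔ w a = d := fun a => Iff.rfl
    have h := IsPGroup.card_modEq_card_fixedPoints hP S
    have e1 : Nat.card S = (Finset.univ.filter (fun a : α => w a = d)).card := by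
      rw [← Nat.card_eq_finsetCard]
      exact Nat.card_congr (Equiv.subtypeEquivRight fun a => by simp [hmem])
    have e2 : Nat.card (MulAction.fixedPoints P S) =
        ((Finset.univ.filter (fun a : α => ∀ g : P, g • a = a)).filter
        (fun a : α => w a = d)).card := by
      rw [← Nat.card_eq_finsetCard]
      refine Nat.card_congr
        ⟨fun x => ⟨x.1.1, ?_⟩, fun x => ⟨⟨x.1, ?_⟩, ?_⟩, fun x => rfl, fun x => rfl⟩
      · simp only [Finset.mem_filter, Finset.mem_univ, true_and]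
        exact ⟨fun g => congrArg Subtype.val (x.2 g), x.1.2⟩
      · have := x.2
        simp only [Finset.mem_filter, Finset.mem_univ, true_and] at this
        exact this.2
      · intro g
        have := x.2
        simp only [Finset.mem_filter, Finset.mem_univ, true_and] at this
        exact Subtype.ext (this.1 g)
    rw [e1, e2] at h
    obtain ⟨k, hk⟩ := (Nat.modEq_iff_dvd.1 h.symm)
    exact ⟨k, hk⟩
  choose k hk using key
  have hsum : ∀ s : Finset α, ∑ a ∈ s, w a =
      ∑ d ∈ Finset.univ.image w, ((s.filter (fun a => w a = d)).card : R) * d := by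
    intro s
    rw [← Finset.sum_fiberwise_of_maps_to (t := Finset.univ.image w) (g := w) (f := w)
      (fun a _ => Finset.mem_image_of_mem _ (Finset.mem_univ a))]
    refine Finset.sum_congr rfl fun d _ => ?_
    rw [Finset.sum_congr rfl (fun a ha => (Finset.mem_filter.1 ha).2), Finset.sum_const, nsmul_eq_mul]
  refine ⟨∑ d ∈ Finset.univ.image w, (k d : R) * d, ?_⟩
  rw [hsum, hsum, ← Finset.sum_sub_distrib, Finset.mul_sum]
  refine Finset.sum_congr rfl fun d _ => ?_
  have h := congrArg (Int.cast : ℤ → R) (hk d)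
  push_cast at h
  rw [← sub_mul, h, mul_assoc]

end weight

section inv

variable {G : Type u} [Group G] (N : Subgroup G) [hN : N.Normal]

/-- the action of `G` on the irreducible characters of a normal subgroup -/
@[reducible] noncomputable def irrAct : MulAction G (IrrCharacter N) where
  smul g ψ := ⟨fun x => (ψ : N → ℂ) (MulAut.conjNormal g⁻¹ x),
    isIrr_comp (MulAut.conjNormal g⁻¹ : N ≃* N).toMonoidHom (MulAut.conjNormal g⁻¹ : N ≃* N).surjective ψ.2⟩
  one_smul ψ := by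
    apply Subtype.ext
    funext x
    show (ψ : N → ℂ) (MulAut.conjNormal (1 : G)⁻¹ x) = _
    rw [inv_one, map_one, MulAut.one_apply]
  mul_smul g h ψ := by
    apply Subtype.ext
    funext x
    show (ψ : N → ℂ) (MulAut.conjNormal (g * h)⁻¹ x) = (ψ : N → ℂ) (MulAut.conjNormal h⁻¹ (MulAut.conjNormal g⁻¹ x))
    rw [← MulAut.mul_apply, ← map_mul, mul_inv_rev]

/-- a `p`-group centralizing a nontrivial element of `N` fixes a nontrivial irreducible character of `N` -/
theorem exists_invariant [Finite G] {p : ℕ} [hp : Fact p.Prime] (P : Subgroup G) (hP : IsPGroup p P) {c : G}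
    (hcN : c ∈ N) (hc1 : c ≠ 1) (hc : ∀ x ∈ P, x * c = c * x) :
    ∃ ψ : IrrCharacter N, (ψ : N → ℂ) ≠ (fun _ => 1) ∧
      ∀ g ∈ P, ∀ x : N, (ψ : N → ℂ) (MulAut.conjNormal g x) = (ψ : N → ℂ) x := by
  classical
  by_contra hcon
  push Not at hcon
  have := finite_irr (G := N)
  have := Fintype.ofFinite (IrrCharacter N)
  letI := irrAct N
  have hact : ∀ (g : P) (ψ : IrrCharacter N) (x : N),
      ((g • ψ : IrrCharacter N) : N → ℂ) x = (ψ : N → ℂ) (MulAut.conjNormal (g : G)⁻¹ x) := fun _ _ _ => rfl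
  -- the weights
  have hint : ∀ (ψ : IrrCharacter N) (x : N), IsIntegral ℤ ((ψ : N → ℂ) x) := fun ψ x =>
    Characters.GaloisBasic.isIntegral_apply (isIrr_isCharacter ψ.2) x
  let w : IrrCharacter N → AlgInt := fun ψ =>
    ⟨(ψ : N → ℂ) ⟨c, hcN⟩ * conj ((ψ : N → ℂ) 1), by
      have h1 : conj ((ψ : N → ℂ) 1) = (ψ : N → ℂ) 1 := by
        rw [← H672.coe_charDegree ψ.2, Complex.conj_natCast]
      rw [h1]
      exact (hint ψ _).mul (hint ψ _)⟩
  have hw : ∀ (g : P) (ψ : IrrCharacter N), w (g • ψ) = w ψ := by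
    intro g ψ
    apply Subtype.ext
    show ((g • ψ : IrrCharacter N) : N → ℂ) ⟨c, hcN⟩ * conj (((g • ψ : IrrCharacter N) : N → ℂ) 1) =
      (ψ : N → ℂ) ⟨c, hcN⟩ * conj ((ψ : N → ℂ) 1)
    rw [hact, hact, map_one]
    have h1 : (MulAut.conjNormal (g : G)⁻¹ : MulAut N) ⟨c, hcN⟩ = ⟨c, hcN⟩ := by
      apply Subtype.ext
      rw [MulAut.conjNormal_apply]
      show (g : G)⁻¹ * c * (g : G)⁻¹⁻¹ = c
      rw [inv_inv, mul_assoc, ← hc g g.2]
      group
    rw [h1]
  obtain ⟨z, hz⟩ := exists_sum_sub hP w hw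
  have hfix : Finset.univ.filter (fun ψ : IrrCharacter N => ∀ g : P, g • ψ = ψ) = {⟨fun _ => 1, isIrr_one⟩} := by
    ext ψ
    rw [Finset.mem_filter, Finset.mem_singleton]
    constructor
    · rintro ⟨-, h⟩
      apply Subtype.ext
      by_contra hne
      obtain ⟨g, hg, x, hx⟩ := hcon ψ hne
      apply hx
      have h1 := congrArg (fun χ : IrrCharacter N => (χ : N → ℂ) (MulAut.conjNormal g x)) (h ⟨g, hg⟩)
      simp only [hact] at h1
      rw [← h1]
      show (ψ : N → ℂ) (MulAut.conjNormal g⁻¹ (MulAut.conjNormal g x)) = _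
      rw [← MulAut.mul_apply, ← map_mul, inv_mul_cancel, map_one, MulAut.one_apply]
    · rintro rfl
      exact ⟨Finset.mem_univ _, fun g => Subtype.ext rfl⟩
  rw [hfix, Finset.sum_singleton] at hz
  have hcol := S0848.column_orth (G := N) ⟨c, hcN⟩ 1
  have h0 : Nat.card {a : N // a * ⟨c, hcN⟩ * a⁻¹ = 1} = 0 := by
    have : IsEmpty {a : N // a * ⟨c, hcN⟩ * a⁻¹ = 1} := by
      refine ⟨fun a => hc1 ?_⟩
      have h1 : (⟨c, hcN⟩ : N) = 1 := by
        have := a.2
        rwa [conj_eq_one_iff] at this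
      exact congrArg Subtype.val h1
    exact Nat.card_of_isEmpty
  rw [h0, Nat.cast_zero] at hcol
  have hz' := congrArg (Subtype.val : AlgInt → ℂ) hz
  have h1 : ((∑ ψ : IrrCharacter N, w ψ : AlgInt) : ℂ) = 0 := by
    rw [hcol]
    exact map_sum (AlgInt.subtype) _ _
  have h2 : ((w ⟨fun _ => 1, isIrr_one⟩ : AlgInt) : ℂ) = 1 := by
    show (1 : ℂ) * conj (1 : ℂ) = 1
    rw [map_one, mul_one]
  have h3 : (0 : ℂ) - 1 = (p : ℂ) * (z : ℂ) := by
    rw [← h1, ← h2]
    exact hz'
  have hp0 : (p : ℂ) ≠ 0 := by exact_mod_cast hp.out.ne_zero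
  have h4 : (z : ℂ) = ((-(1 / p) : ℚ) : ℂ) := by
    push_cast
    field_simp
    linear_combination -h3
  have h5 : IsIntegral ℤ (((-(1 / p) : ℚ)) : ℂ) := h4 ▸ z.2
  have h6 : IsIntegral ℤ (-(1 / p) : ℚ) := by
    rw [← isIntegral_algebraMap_iff (A := ℚ) (B := ℂ) (algebraMap ℚ ℂ).injective]
    exact h5
  obtain ⟨k, hk⟩ := IsIntegrallyClosed.isIntegral_iff.1 h6
  have h7 : (k : ℚ) * p = -1 := by
    have hp1 : (p : ℚ) ≠ 0 := by exact_mod_cast hp.out.ne_zero
    have h8 : (k : ℚ) = -(1 / p) := hk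
    rw [h8]
    field_simp
  have h8 : k * (p : ℤ) = -1 := by exact_mod_cast h7
  have h9 : (p : ℤ) ∣ 1 := ⟨-k, by linarith⟩
  exact hp.out.one_lt.ne' (Nat.dvd_one.1 (by exact_mod_cast h9))

/-- a `P`-invariant nontrivial character as in Lemma L is impossible -/
theorem no_inv [Finite G] {p : ℕ} [hp : Fact p.Prime] (hL : LemL.{u} p) (P : Sylow p G)
    (h : ∀ χ : IrrCharacter G, ¬ p ∣ charDegree (χ : G → ℂ) → PRat p (χ : G → ℂ) → (χ : G → ℂ) = fun _ => (1 : ℂ))
    (hs : SN (P : Subgroup G) N) (ψ : IrrCharacter N) (hψ1 : (ψ : N → ℂ) ≠ fun _ => 1)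
    (hd : ¬ p ∣ charDegree (ψ : N → ℂ)) (hr : PRat p (ψ : N → ℂ))
    (hinv : ∀ g ∈ (P : Subgroup G), ∀ x : N, (ψ : N → ℂ) (MulAut.conjNormal g x) = (ψ : N → ℂ) x) : False := by
  classical
  obtain ⟨χ, hχd, hχr, hχo⟩ := hL P N hs ψ hd hr hinv
  have hχ1 := h χ hχd hχr
  have := Fintype.ofFinite N
  rw [ov_iff, hχ1] at hχo
  apply hχo
  show classInner (fun _ : N => (1 : ℂ)) (ψ : N → ℂ) = 0
  rw [classInner_irr (χ := fun _ : N => (1 : ℂ)) isIrr_one ψ.2]
  exact if_neg fun hne => hψ1 hne.symm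

/-- an abelian minimal normal subgroup of order divisible by `p` is a `p`-group -/
theorem isPGroup_of_abelian [Finite G] {p : ℕ} [hp : Fact p.Prime]
    (hmin : ∀ K : Subgroup G, K.Normal → K ≤ N → K = ⊥ ∨ K = N) (hab : ∀ x ∈ N, ∀ y ∈ N, Commute x y)
    (hpN : p ∣ Nat.card N) : IsPGroup p N := by
  let T : Subgroup G :=
    { carrier := {x | x ∈ N ∧ x ^ p = 1}
      one_mem' := ⟨N.one_mem, one_pow p⟩
      mul_mem' := by
        rintro a b ⟨ha, ha'⟩ ⟨hb, hb'⟩
        exact ⟨N.mul_mem ha hb, by rw [(hab a ha b hb).mul_pow, ha', hb', one_mul]⟩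
      inv_mem' := by
        rintro a ⟨ha, ha'⟩
        exact ⟨N.inv_mem ha, by rw [inv_pow, ha', inv_one]⟩ }
  have hT : ∀ x, x ∈ T ↔ x ∈ N ∧ x ^ p = 1 := fun x => Iff.rfl
  have hTn : T.Normal := by
    constructor
    rintro x ⟨hx, hx'⟩ y
    refine ⟨hN.conj_mem x hx y, ?_⟩
    have h1 : (y * x * y⁻¹) ^ p = y * x ^ p * y⁻¹ := conj_pow
    rw [h1, hx', mul_one, mul_inv_cancel]
  rcases hmin T hTn (fun x hx => hx.1) with h1 | h1
  · exfalso
    obtain ⟨x, hx⟩ := exists_prime_orderOf_dvd_card' p hpN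
    have h2 : (x : G) ∈ T := (hT _).2 ⟨x.2, by
      have h3 := pow_orderOf_eq_one x
      rw [hx] at h3
      exact congrArg Subtype.val h3⟩
    rw [h1, Subgroup.mem_bot] at h2
    have h3 : x = 1 := Subtype.ext h2
    rw [h3, orderOf_one] at hx
    exact hp.out.one_lt.ne hx
  · rintro ⟨x, hx⟩
    refine ⟨1, Subtype.ext ?_⟩
    rw [← h1] at hx
    show x ^ p ^ 1 = 1
    rw [pow_one]
    exact hx.2

end inv

/-- a Sylow subgroup not normalized by nontrivial `p`-regular elements is self-normalizing -/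
theorem self_norm_of {G : Type u} [Group G] [Finite G] {p : ℕ} [hp : Fact p.Prime] (P : Sylow p G)
    (h : ∀ g : G, ¬ p ∣ orderOf g → (∀ x ∈ (P : Subgroup G), g * x * g⁻¹ ∈ (P : Subgroup G)) → g = 1) :
    Subgroup.normalizer ((P : Subgroup G) : Set G) = (P : Subgroup G) := by
  refine le_antisymm ?_ Subgroup.le_normalizer
  rw [← Subgroup.relIndex_eq_one]
  by_contra hne
  obtain ⟨q, hq, hqd⟩ := Nat.exists_prime_and_dvd hne
  have hqp : q ≠ p := by
    rintro rfl
    exact P.not_dvd_index (hqd.trans (Subgroup.relIndex_dvd_index_of_le Subgroup.le_normalizer))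
  have : Fact q.Prime := ⟨hq⟩
  obtain ⟨g, hg⟩ := exists_prime_orderOf_dvd_card' (G := Subgroup.normalizer ((P : Subgroup G) : Set G)) q
    (hqd.trans (Subgroup.relIndex_dvd_card _ _))
  have h1 : (g : G) = 1 := by
    refine h g ?_ fun x hx => (Subgroup.mem_normalizer_iff.1 g.2 x).1 hx
    rw [Subgroup.orderOf_coe, hg]
    intro h2
    exact hqp ((Nat.prime_dvd_prime_iff_eq hp.out hq).1 h2).symm
  have h2 : g = 1 := Subtype.ext h1
  rw [h2, orderOf_one] at hg
  exact hq.one_lt.ne hg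

/-- **(R3) Theorem N** -/
theorem theoremN {p : ℕ} [hp : Fact p.Prime] (hL : LemL.{u} p) (hE : ExTh.{u} p) : ThmN.{u} p := by
  classical
  obtain ⟨M, hM⟩ := Blocks.Knorr.exists_isPModular p
  suffices H : ∀ (n : ℕ) {G : Type u} [Group G] [Finite G], Nat.card G = n → ∀ P : Sylow p G,
      (∀ χ : IrrCharacter G, ¬ p ∣ charDegree (χ : G → ℂ) → PRat p (χ : G → ℂ) → (χ : G → ℂ) = fun _ => (1 : ℂ)) →
      Subgroup.normalizer ((P : Subgroup G) : Set G) = (P : Subgroup G) from
    fun {G} _ _ P h => H (Nat.card G) rfl P h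
  intro n
  induction n using Nat.strong_induction_on with
  | _ n ih =>
  intro G _ _ hn P h
  by_cases hG : Nontrivial G
  swap
  · rw [not_nontrivial_iff_subsingleton] at hG
    ext x
    rw [Subsingleton.elim x 1]
    exact ⟨fun _ => Subgroup.one_mem _, fun _ => Subgroup.one_mem _⟩
  obtain ⟨N, hNn, hN1, hmin⟩ := Lib.SubnormalJoin.exists_minimal_normal G
  have hs : SN (P : Subgroup G) N := by
    apply sn_of_quot
    refine ih (Nat.card (G ⧸ N)) ?_ rfl (P.mapSurjective (QuotientGroup.mk'_surjective N)) ?_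
    · rw [← hn]
      have h1 := N.card_eq_card_quotient_mul_card_subgroup
      have h2 : 1 < Nat.card N := (Subgroup.one_lt_card_iff_ne_bot N).2 hN1
      rw [h1]
      exact lt_mul_of_one_lt_right Nat.card_pos h2
    · intro χ hd hr
      obtain ⟨h1, h2, h3⟩ := infl_facts N hd hr
      exact h3 (h _ h1 h2)
  apply self_norm_of P
  intro g hgr hgP
  have hgN : g ∈ N := mem_of_sn P.isPGroup' hs hgP hgr
  by_cases hpN : p ∣ Nat.card N
  · by_cases hab : ∀ x ∈ N, ∀ y ∈ N, Commute x y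
    · have hNp := isPGroup_of_abelian N hmin hab hpN
      obtain ⟨k, hk⟩ := hNp ⟨g, hgN⟩
      have hk' : g ^ p ^ k = 1 := congrArg Subtype.val hk
      have h1 := orderOf_dvd_of_pow_eq_one hk'
      have h2 : Nat.Coprime (p ^ k) (orderOf g) :=
        Nat.Coprime.pow_left k ((Nat.Prime.coprime_iff_not_dvd hp.out).2 hgr)
      exact orderOf_eq_one_iff.1 (Nat.eq_one_of_dvd_coprimes h2 h1 dvd_rfl)
    · rcases hE hM P N hmin hab hpN with ⟨θ, ⟨-, h1, h2, h3⟩, hinv⟩ | hex
      · exact (no_inv N hL P h hs θ h1 h2 h3 hinv).elim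
      · exact hex g hgN hgr hgP
  · by_contra hg1
    have hcen : ∀ x ∈ (P : Subgroup G), x * g = g * x := by
      intro x hx
      have h1 : g * x * g⁻¹ * x⁻¹ ∈ (P : Subgroup G) := (P : Subgroup G).mul_mem (hgP x hx) ((P : Subgroup G).inv_mem hx)
      have h2 : g * x * g⁻¹ * x⁻¹ ∈ N := by
        have h3 := N.mul_mem hgN (hNn.conj_mem _ (N.inv_mem hgN) x)
        have h4 : g * (x * g⁻¹ * x⁻¹) = g * x * g⁻¹ * x⁻¹ := by group
        rwa [h4] at h3
      obtain ⟨k, hk⟩ := P.isPGroup' ⟨_, h1⟩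
      have hk' : (g * x * g⁻¹ * x⁻¹) ^ p ^ k = 1 := congrArg Subtype.val hk
      have h3 : orderOf (g * x * g⁻¹ * x⁻¹) ∣ Nat.card N := by
        have := orderOf_dvd_natCard (⟨_, h2⟩ : N)
        rwa [← Subgroup.orderOf_coe] at this
      have h4 : Nat.Coprime (p ^ k) (Nat.card N) :=
        Nat.Coprime.pow_left k ((Nat.Prime.coprime_iff_not_dvd hp.out).2 hpN)
      have h5 := orderOf_eq_one_iff.1 (Nat.eq_one_of_dvd_coprimes h4 (orderOf_dvd_of_pow_eq_one hk') h3)
      have h6 := mul_inv_eq_one.1 h5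
      exact (mul_inv_eq_iff_eq_mul.1 h6).symm
    obtain ⟨ψ, hψ1, hinv⟩ := exists_invariant N (P : Subgroup G) P.isPGroup' hgN hg1 hcen
    refine no_inv N hL P h hs ψ hψ1 ?_ (H846.RatB.pRatC_of_coprime hpN (isIrr_isCharacter ψ.2)) hinv
    intro h1
    obtain ⟨n, ρ, hρ, he⟩ := ψ.2
    have h2 : charDegree (ψ : N → ℂ) = Module.finrank ℂ (Fin n → ℂ) := by
      rw [← he, charDegree, Representation.char_one]
      simp
    rw [h2] at h1
    exact hpN (h1.trans (Cfsg.Agent.S0135.result ρ))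

/-- (R4) in the form of H627.BR -/
theorem exTh {p : ℕ} [hp : Fact p.Prime]
    (hT : ∀ (S : Type u) [Group S] [Finite S], IsSimpleGroup S → (¬ ∀ a b : S, a * b = b * a) →
      p ∣ Nat.card S → Row p S) : ExTh.{u} p := by
  intro M hM G _ _ P N _ hmin hab hd
  exact exists_theta hT hM P N hmin hab hd

end Cfsg.Agent.H940.RatB
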