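import Mathlib
import Cfsg.Prelude.Def_Characters
import Cfsg.Agent.Characters.Core
import Cfsg.Agent.Characters.GaloisIrr

/-!
# Constituents of characters with multiplicity-free restriction (helper940, TEAM B0-RAT, S4891)

`fixed_of_multFree`: `π` is a character of `G` with `σ ∘ π = π`, the restriction of `π` to a subgroup `N` is
multiplicity free and all its constituents are fixed by the field automorphism `σ`. Then every irreducible constituent
of `π` is fixed by `σ`.
-/

set_option autoImplicit false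
set_option linter.unusedSectionVars false

open Cfsg

namespace Cfsg.Agent.H940.RatB

open Cfsg.Agent.Characters.Core Cfsg.Agent.Characters

universe u

variable {G : Type u} [Group G]

/-- restriction of a function to a subgroup -/
def rs (N : Subgroup G) (f : G → ℂ) : N → ℂ := fun n => f n

theorem rs_isCharacter (N : Subgroup G) {f : G → ℂ} (h : IsCharacter G f) : IsCharacter N (rs N f) :=
  isCharacter_comp N.subtype h

theorem exists_constituent [Fintype G] {f : G → ℂ} (h : IsCharacter G f) (h0 : f ≠ 0) :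
    ∃ θ : G → ℂ, IsIrrCharacter G θ ∧ classInner f θ ≠ 0 := by
  classical
  have := finite_irr (G := G)
  have := Fintype.ofFinite (IrrCharacter G)
  obtain ⟨m, hm⟩ := exists_nat_comb h
  by_contra hcon
  push Not at hcon
  apply h0
  rw [hm]
  refine Finset.sum_eq_zero fun ψ _ => ?_
  have h1 := hcon ψ.1 ψ.2
  rw [hm, classInner_sum_nsmul_irr] at h1
  have h2 : m ψ = 0 := by exact_mod_cast h1
  rw [h2, zero_smul]

/-- the multiplicity in the restriction is at least the sum over two constituents -/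
theorem two_constituents [Fintype G] (N : Subgroup G) [Fintype N] {π : G → ℂ} (hπ : IsCharacter G π)
    {χ χ' : G → ℂ} (hχ : IsIrrCharacter G χ) (hχ' : IsIrrCharacter G χ') (hne : χ ≠ χ')
    (h : classInner π χ ≠ 0) (h' : classInner π χ' ≠ 0) {θ : N → ℂ} (hθ : IsIrrCharacter N θ)
    (a : classInner (rs N χ) θ ≠ 0) (a' : classInner (rs N χ') θ ≠ 0) (n : ℕ)
    (hn : classInner (rs N π) θ = n) : 2 ≤ n := by
  classical
  have := finite_irr (G := G)
  have := Fintype.ofFinite (IrrCharacter G)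
  obtain ⟨m, hm⟩ := exists_nat_comb hπ
  have h1 : ∀ ψ : IrrCharacter G, ∃ k : ℕ, classInner (rs N (ψ : G → ℂ)) θ = k := fun ψ =>
    classInner_isNat (rs_isCharacter N (isIrr_isCharacter ψ.2)) (isIrr_isCharacter hθ)
  choose k hk using h1
  have h2 : rs N π = ∑ ψ : IrrCharacter G, (m ψ : ℂ) • rs N (ψ : G → ℂ) := by
    funext x
    show π (x : G) = _
    rw [hm]
    simp only [Finset.sum_apply, Pi.smul_apply, nsmul_eq_mul, smul_eq_mul]
    rfl
  have h3 : n = ∑ ψ : IrrCharacter G, m ψ * k ψ := by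
    have h4 : (n : ℂ) = ((∑ ψ : IrrCharacter G, m ψ * k ψ : ℕ) : ℂ) := by
      rw [← hn, h2, classInner_sum_left, Nat.cast_sum]
      refine Finset.sum_congr rfl fun ψ _ => ?_
      rw [classInner_smul_left, hk, Nat.cast_mul]
    exact_mod_cast h4
  have key : ∀ (ψ : IrrCharacter G), classInner π (ψ : G → ℂ) ≠ 0 → classInner (rs N (ψ : G → ℂ)) θ ≠ 0 →
      1 ≤ m ψ * k ψ := by
    intro ψ h5 h6
    rw [hm, classInner_sum_nsmul_irr] at h5
    rw [hk] at h6
    have h7 : m ψ ≠ 0 := by exact_mod_cast h5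
    have h8 : k ψ ≠ 0 := by exact_mod_cast h6
    exact Nat.one_le_iff_ne_zero.2 (Nat.mul_ne_zero h7 h8)
  have h9 := key ⟨χ, hχ⟩ h a
  have h10 := key ⟨χ', hχ'⟩ h' a'
  have h11 : (⟨χ, hχ⟩ : IrrCharacter G) ≠ ⟨χ', hχ'⟩ := fun e => hne (congrArg Subtype.val e)
  have h12 : ∑ ψ ∈ ({⟨χ, hχ⟩, ⟨χ', hχ'⟩} : Finset (IrrCharacter G)), m ψ * k ψ ≤
      ∑ ψ : IrrCharacter G, m ψ * k ψ :=
    Finset.sum_le_sum_of_subset (Finset.subset_univ _)
  rw [Finset.sum_pair h11] at h12
  omega

/-- **Constituents of a character with multiplicity-free restriction are fixed by `σ`.** -/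
theorem fixed_of_multFree [Fintype G] (N : Subgroup G) [Fintype N] {π : G → ℂ} (hπ : IsCharacter G π)
    (σ : ℂ ≃+* ℂ) (hσπ : ∀ g, σ (π g) = π g)
    (hmf : ∀ θ : N → ℂ, IsIrrCharacter N θ → classInner (rs N π) θ = 0 ∨ classInner (rs N π) θ = 1)
    (hfix : ∀ θ : N → ℂ, IsIrrCharacter N θ → classInner (rs N π) θ ≠ 0 → ∀ n, σ (θ n) = θ n)
    {χ : G → ℂ} (hχ : IsIrrCharacter G χ) (h : classInner π χ ≠ 0) (g : G) : σ (χ g) = χ g := by
  classical
  by_contra hne
  have hχ' : IsIrrCharacter G (fun g => σ (χ g)) := GaloisIrr.isIrr_map σ hχ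
  have hne' : χ ≠ fun g => σ (χ g) := fun e => hne (congrFun e g).symm
  have h' : classInner π (fun g => σ (χ g)) ≠ 0 := by
    have h1 := GaloisIrr.classInner_map σ (χ := π) (isIrr_isCharacter hχ)
    have h2 : (fun g => σ (π g)) = π := funext hσπ
    rw [h2] at h1
    rw [h1]
    exact (map_ne_zero_iff σ σ.injective).2 h
  have h0 : rs N χ ≠ 0 := by
    intro e
    have h1 : rs N χ 1 = 0 := by rw [e]; rfl
    exact isIrr_apply_one_ne_zero hχ h1
  obtain ⟨θ, hθ, hθ0⟩ := exists_constituent (rs_isCharacter N (isIrr_isCharacter hχ)) h0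
  -- `θ` is a constituent of the restriction of `π`
  obtain ⟨n, hn⟩ := classInner_isNat (rs_isCharacter N hπ) (isIrr_isCharacter hθ)
  have hθπ : classInner (rs N π) θ ≠ 0 := by
    have := finite_irr (G := G)
    have := Fintype.ofFinite (IrrCharacter G)
    obtain ⟨m, hm⟩ := exists_nat_comb hπ
    have h1 : ∀ ψ : IrrCharacter G, ∃ k : ℕ, classInner (rs N (ψ : G → ℂ)) θ = k := fun ψ =>
      classInner_isNat (rs_isCharacter N (isIrr_isCharacter ψ.2)) (isIrr_isCharacter hθ)
    choose k hk using h1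
    have h2 : rs N π = ∑ ψ : IrrCharacter G, (m ψ : ℂ) • rs N (ψ : G → ℂ) := by
      funext x
      show π (x : G) = _
      rw [hm]
      simp only [Finset.sum_apply, Pi.smul_apply, nsmul_eq_mul, smul_eq_mul]
      rfl
    have h3 : classInner (rs N π) θ = ((∑ ψ : IrrCharacter G, m ψ * k ψ : ℕ) : ℂ) := by
      rw [h2, classInner_sum_left, Nat.cast_sum]
      refine Finset.sum_congr rfl fun ψ _ => ?_
      rw [classInner_smul_left, hk, Nat.cast_mul]
    rw [h3]
    have h5 := h
    rw [hm] at h5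
    have h6 : (m ⟨χ, hχ⟩ : ℂ) ≠ 0 := by
      have := classInner_sum_nsmul_irr m ⟨χ, hχ⟩
      rw [← this]
      exact h5
    have h7 : (k ⟨χ, hχ⟩ : ℂ) ≠ 0 := by
      rw [← hk]
      exact hθ0
    have h8 : m ⟨χ, hχ⟩ * k ⟨χ, hχ⟩ ≠ 0 :=
      Nat.mul_ne_zero (by exact_mod_cast h6) (by exact_mod_cast h7)
    have h9 : m ⟨χ, hχ⟩ * k ⟨χ, hχ⟩ ≤ ∑ ψ : IrrCharacter G, m ψ * k ψ :=
      Finset.single_le_sum (f := fun ψ => m ψ * k ψ) (fun _ _ => Nat.zero_le _) (Finset.mem_univ _)
    have h10 : ∑ ψ : IrrCharacter G, m ψ * k ψ ≠ 0 := by omega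
    exact_mod_cast h10
  have hθσ : (fun n => σ (θ n)) = θ := funext (hfix θ hθ hθπ)
  have hθ' : classInner (rs N (fun g => σ (χ g))) θ ≠ 0 := by
    have h1 := GaloisIrr.classInner_map σ (χ := rs N χ) (isIrr_isCharacter hθ)
    rw [hθσ] at h1
    have h2 : classInner (rs N (fun g => σ (χ g))) θ = σ (classInner (rs N χ) θ) := h1
    rw [h2]
    exact (map_ne_zero_iff σ σ.injective).2 hθ0
  have h3 := two_constituents N hπ hχ hχ' hne' h h' hθ hθ0 hθ' n hn
  rcases hmf θ hθ with h4 | h4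
  · exact hθπ h4
  · rw [hn] at h4
    have : n = 1 := by exact_mod_cast h4
    omega

end Cfsg.Agent.H940.RatB
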